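import Mathlib
import Cfsg.Agent.Helper12.GolayTrio2

/-!
# Listed families of sets of points with verified action tables

`n` families of `c` sets each are listed in a table `QT` of masks; the action of a permutation on
the families is given by a table of indices that is checked against the masks.
-/

set_option autoImplicit false
open scoped Pointwise

namespace Cfsg.Agent.Helper12
open Cfsg

/-- The family of the `c` sets with masks `QT[c*m], …, QT[c*m+c-1]`. -/
def fam (QT c m : ℕ) : Finset (Finset GolayPt) :=
  (Finset.range c).image (fun i => ofMask (get24 QT (Nat.add (Nat.mul c m) i)))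

theorem mem_fam {QT c m : ℕ} {s : Finset GolayPt} :
    s ∈ fam QT c m ↔ ∃ i, i < c ∧ s = ofMask (get24 QT (Nat.add (Nat.mul c m) i)) := by
  unfold fam
  rw [Finset.mem_image]
  constructor
  · rintro ⟨i, hi, rfl⟩; exact ⟨i, Finset.mem_range.mp hi, rfl⟩
  · rintro ⟨i, hi, rfl⟩; exact ⟨i, Finset.mem_range.mpr hi, rfl⟩

theorem fam_card_le (QT c m : ℕ) : (fam QT c m).card ≤ c := by
  unfold fam
  exact le_trans Finset.card_image_le (by rw [Finset.card_range])

/-- The family with index `m`, empty out of range. -/
def decF (QT c n m : ℕ) : Finset (Finset GolayPt) := if m < n then fam QT c m else ∅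

theorem decF_of_lt {QT c n m : ℕ} (h : m < n) : decF QT c n m = fam QT c m := if_pos h

/-- The check that the table `ATS` at offset `off` describes the action of the permutation with
table `P` on the `n` families. -/
def famActOK (P QT c n ATS off : ℕ) : Bool :=
  allB n (fun m => Nat.blt (get24 ATS (Nat.add off m)) n &&
    (allB c (fun i => anyB c (fun i' => Nat.beq (permMask P (get24 QT (Nat.add (Nat.mul c m) i)))
        (get24 QT (Nat.add (Nat.mul c (get24 ATS (Nat.add off m))) i')))) &&
     allB c (fun i' => anyB c (fun i => Nat.beq (permMask P (get24 QT (Nat.add (Nat.mul c m) i)))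
        (get24 QT (Nat.add (Nat.mul c (get24 ATS (Nat.add off m))) i'))))))

theorem famAct_spec (P Q : ℕ) (h : permOK P Q = true) {QT c n ATS off : ℕ}
    (hok : famActOK P QT c n ATS off = true) {m : ℕ} (hm : m < n) :
    get24 ATS (Nat.add off m) < n ∧
      mkPerm P Q h • fam QT c m = fam QT c (get24 ATS (Nat.add off m)) := by
  have h1 := allB_spec hok m hm
  simp only [Bool.and_eq_true, Nat.blt_eq] at h1
  obtain ⟨h2, h3, h4⟩ := h1
  refine ⟨h2, ?_⟩
  ext s
  rw [Finset.mem_smul_finset, mem_fam]
  constructor
  · rintro ⟨t, ht, rfl⟩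
    obtain ⟨i, hi, rfl⟩ := mem_fam.mp ht
    have h5 := allB_spec h3 i hi
    rw [anyB_iff] at h5
    obtain ⟨i', hi', e⟩ := h5
    rw [Nat.beq_eq] at e
    exact ⟨i', hi', by rw [smul_ofMask, e]⟩
  · rintro ⟨i', hi', rfl⟩
    have h5 := allB_spec h4 i' hi'
    rw [anyB_iff] at h5
    obtain ⟨i, hi, e⟩ := h5
    rw [Nat.beq_eq] at e
    exact ⟨_, mem_fam.mpr ⟨i, hi, rfl⟩, by rw [smul_ofMask, e]⟩

/-- The action on indices of the `j`-th permutation of a system, from the table `ATS`. -/
def tact (ATS n j m : ℕ) : ℕ := bif Nat.blt m n then get24 ATS (Nat.add (Nat.mul n j) m) else m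

/-- The tables `ATS` describe the action of the system `GS` on the families. -/
def sysFamOK (GS QT c n ATS ng : ℕ) : Bool :=
  allB ng (fun j => famActOK (sub GS j) QT c n ATS (Nat.mul n j))

theorem tact_lt {GS QT c n ATS ng : ℕ} (hok : sysFamOK GS QT c n ATS ng = true) {j : ℕ}
    (hj : j < ng) {m : ℕ} (hm : m < n) : tact ATS n j m < n := by
  have h1 := allB_spec (allB_spec hok j hj) m hm
  simp only [Bool.and_eq_true, Nat.blt_eq] at h1
  unfold tact
  have : Nat.blt m n = true := by rw [Nat.blt_eq]; exact hm
  rw [this]
  exact h1.1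

theorem gen_smul_decF (GS QS ng : ℕ) (h : sysOK GS QS ng = true) {QT c n ATS : ℕ}
    (hok : sysFamOK GS QT c n ATS ng = true) {j : ℕ} (hj : j < ng) (m : ℕ) :
    genOf GS QS ng h j • decF QT c n m = decF QT c n (tact ATS n j m) := by
  by_cases hm : m < n
  · have hb : Nat.blt m n = true := by rw [Nat.blt_eq]; exact hm
    obtain ⟨h1, h2⟩ := famAct_spec (sub GS j) (sub QS j) (allB_spec h j hj) (allB_spec hok j hj) hm
    have ht : tact ATS n j m = get24 ATS (Nat.add (Nat.mul n j) m) := by
      unfold tact; rw [hb]; rfl
    rw [ht, decF_of_lt hm, decF_of_lt h1, genOf, dif_pos hj, h2]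
  · have hb : Nat.blt m n = false := by
      cases hc : Nat.blt m n with
      | false => rfl
      | true => rw [Nat.blt_eq] at hc; exact absurd hc hm
    have ht : tact ATS n j m = m := by unfold tact; rw [hb]; rfl
    rw [ht, decF, if_neg hm, Finset.smul_finset_empty]

/-- The identity array on indices below 256. -/
def IDA : ℕ := 0xff0000fe0000fd0000fc0000fb0000fa0000f90000f80000f70000f60000f50000f40000f30000f20000f10000f00000ef0000ee0000ed0000ec0000eb0000ea0000e90000e80000e70000e60000e50000e40000e30000e20000e10000e00000df0000de0000dd0000dc0000db0000da0000d90000d80000d70000d60000d50000d40000d30000d20000d10000d00000cf0000ce0000cd0000cc0000cb0000ca0000c90000c80000c70000c60000c50000c40000c30000c20000c10000c00000bf0000be0000bd0000bc0000bb0000ba0000b90000b80000b70000b60000b50000b40000b30000b20000b10000b00000af0000ae0000ad0000ac0000ab0000aa0000a90000a80000a70000a60000a50000a40000a30000a20000a10000a000009f00009e00009d00009c00009b00009a00009900009800009700009600009500009400009300009200009100009000008f00008e00008d00008c00008b00008a00008900008800008700008600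008500008400008300008200008100008000007f00007e00007d00007c00007b00007a00007900007800007700007600007500007400007300007200007100007000006f00006e00006d00006c00006b00006a00006900006800006700006600006500006400006300006200006100006000005f00005e00005d00005c00005b00005a00005900005800005700005600005500005400005300005200005100005000004f00004e00004d00004c00004b00004a00004900004800004700004600004500004400004300004200004100004000003f00003e00003d00003c00003b00003a00003900003800003700003600003500003400003300003200003100003000002f00002e00002d00002c00002b00002a00002900002800002700002600002500002400002300002200002100002000001f00001e00001d00001c00001b00001a00001900001800001700001600001500001400001300001200001100001000000f00000e00000d00000c00000b00000a000009000008000007000006000005000004000003000002000001000000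

theorem k_IDA : allB 256 (fun k => Nat.beq (get24 IDA k) k) = true := by decide +kernel

theorem IDA_spec {k : ℕ} (hk : k < 256) : get24 IDA k = k :=
  Nat.eq_of_beq_eq_true (allB_spec k_IDA k hk)

/-- Orbit certificate for listed families (`n ≤ 256`). -/
theorem fam_orbit (GS QS ng : ℕ) (h : sysOK GS QS ng = true) {QT c n ATS : ℕ} (hn : n ≤ 256)
    (hok : sysFamOK GS QT c n ATS ng = true) (H : Subgroup (Equiv.Perm GolayPt))
    (hH : ∀ j, j < ng → genOf GS QS ng h j ∈ H) (PA TA RT RK : ℕ)
    (hcert : certOK (tact ATS n) ng IDA PA TA RT RK n = true) :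
    ∀ k, k < n → get24 RT k < n → ∃ g ∈ H, g • fam QT c (get24 RT k) = fam QT c k := by
  intro k hk hr
  obtain ⟨g, hg, e⟩ := orbit_cert H (decF QT c n) (genOf GS QS ng h) (tact ATS n) ng hH
    (fun j hj m => gen_smul_decF GS QS ng h hok hj m) IDA PA TA RT RK n hcert k hk
  rw [IDA_spec (lt_of_lt_of_le hr hn), IDA_spec (lt_of_lt_of_le hk hn), decF_of_lt hr,
    decF_of_lt hk] at e
  exact ⟨g, hg, e⟩

/-- A sum over `i < c`, as a raw recursor. -/
def sumN (c : ℕ) (f : ℕ → ℕ) : ℕ :=
  Nat.rec (motive := fun _ => ℕ) 0 (fun i acc => Nat.add acc (f i)) c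

theorem sumN_eq (c : ℕ) (f : ℕ → ℕ) : sumN c f = ∑ i ∈ Finset.range c, f i := by
  induction c with
  | zero => rfl
  | succ c ih =>
    rw [Finset.sum_range_succ, ← ih]
    rfl

/-- The invariant `zinv` of two listed families, on masks. -/
def finv (QT c m0 m : ℕ) : ℕ :=
  sumN c (fun i => sumN c (fun i' =>
    z9 (get24 QT (Nat.add (Nat.mul c m) i)) (get24 QT (Nat.add (Nat.mul c m0) i'))))

/-- The masks of the family `m` increase. -/
def famMono (QT c m : ℕ) : Bool :=
  allB (Nat.pred c) (fun i => Nat.blt (get24 QT (Nat.add (Nat.mul c m) i))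
    (get24 QT (Nat.add (Nat.mul c m) (Nat.succ i))))

theorem famMono_lt {QT c m : ℕ} (h : famMono QT c m = true) {i i' : ℕ} (hii : i < i') (hi' : i' < c) :
    get24 QT (Nat.add (Nat.mul c m) i) < get24 QT (Nat.add (Nat.mul c m) i') := by
  induction i' with
  | zero => omega
  | succ l ih =>
    have h1 := allB_spec h l (by show l < c - 1; omega)
    rw [Nat.blt_eq] at h1
    rcases Nat.lt_succ_iff_lt_or_eq.mp hii with h2 | h2
    · exact lt_trans (ih h2 (by omega)) h1
    · rw [h2]; exact h1

theorem famMono_inj {QT c m : ℕ} (h : famMono QT c m = true) :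
    Set.InjOn (fun i => ofMask (get24 QT (Nat.add (Nat.mul c m) i))) (Finset.range c : Finset ℕ) := by
  intro i hi i' hi' e
  rw [Finset.mem_coe, Finset.mem_range] at hi hi'
  have e' := ofMask_inj (get24_lt _ _) (get24_lt _ _) e
  rcases Nat.lt_trichotomy i i' with h1 | h1 | h1
  · exact absurd e' (ne_of_lt (famMono_lt h h1 hi'))
  · exact h1
  · exact absurd e'.symm (ne_of_lt (famMono_lt h h1 hi))

theorem fam_card {QT c m : ℕ} (h : famMono QT c m = true) : (fam QT c m).card = c := by
  unfold fam
  rw [Finset.card_image_of_injOn (famMono_inj h), Finset.card_range]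

theorem zinv_fam {QT c m0 m : ℕ} (h0 : famMono QT c m0 = true) (h : famMono QT c m = true) :
    zinv (fam QT c m0) (fam QT c m) = finv QT c m0 m := by
  classical
  unfold zinv fam finv
  rw [Finset.sum_image (famMono_inj h), sumN_eq]
  apply Finset.sum_congr rfl
  intro i _
  rw [Finset.sum_image (famMono_inj h0), sumN_eq]
  apply Finset.sum_congr rfl
  intro i' _
  exact z9_eq (get24_lt _ _)

end Cfsg.Agent.Helper12
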