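import Mathlib
import Cfsg.Agent.Helper12.GolayQuartetData

/-!
# The quartets of a dodecad

The 220 quartets of the first dodecad are listed; every quartet is in the list, the stabilizer of the
dodecad is transitive on them, and two compatible triples lie in exactly one quartet.
-/

set_option autoImplicit false
open scoped Pointwise

namespace Cfsg.Agent.Helper12
open Cfsg

/-- The action of the two generators of the stabilizer of the first dodecad on its quartets. -/
def QATS : ℕ := 0x770000520000890000580000a000002300000300006a00000f00009e0000c30000c00000820000d100000e0000c90000320000680000bf00002a0000390000cd0000060000460000bd00009f0000ac0000d600009400000d00006900008c00001200005f0000da00001a0000830000c400003a0000330000b80000ad0000870000c600008d0000d50000cc0000bb0000d70000600000cf0000020000470000d20000950000c80000b90000d90000c70000210000ab0000d00000130000760000be0000750000db00002b0000930000d300001b0000510000ce0000bc0000ca0000cb00003b0000d80000d400005e0000c50000190000880000070000c10000220000c20000310000ba0000570000250000260000270000160000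1700001400001500006c00002800006d00004800004a00004b00009700009800009600001f00001e00001d00001c00006f00007000007100004c00004f00004e00002900009a0000990000300000650000660000670000400000410000420000430000380000910000920000900000000000800000810000b20000b40000b30000040000a70000a600000800000a00000900000b00006300006100006400006200003d00003f00003e00003c00005000008e00008f00007f00005300004400005500005400002d00002f00002e00002c00005d00008400008500008600007a0000100000790000780000af0000050000ae00004d0000a30000a20000a100006e00005b00005c00005900005a00003700003500003400003600005600004500008a00008b00007d00007e00007c00007b0000b10000010000b00000490000110000a50000a400006b0000180000720000730000740000a80000aa0000a900000c00009d00002000009c00009b0000b70000b50000b60000240000640000d70000730000540000da00005f0000510000790000660000cd00006a00005200005b0000580000d200007700006d00005000007f00008f0000a400009a00008b00008c00006e00007b00008500008900006200009b00009f0000920000940000830000610000820000af00009c0000950000750000670000b10000b20000560000b700005300006000006b00008800005a00007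80000860000680000900000650000c70000570000720000840000800000bd00009600006c0000b60000be0000c600009300005e00008a00009e0000b50000bb0000990000bc00006f0000a60000c80000590000700000c40000c50000970000c00000ab00007c0000a80000c10000a10000ba0000b80000740000a00000c90000550000690000870000c20000760000d40000a90000cc00007a0000b40000810000d90000a200005c00008d0000910000c30000cb00009d0000ac0000d100007d0000a70000b30000d30000a50000db00005d0000bf0000b90000ad0000d60000980000630000710000cf0000aa00008e0000ce0000a30000b000007e0000d80000ae0000d00000d50000ca00003d00003f00003e00003c00002500002600002700002400000800000a00000900000b00000c00000e00000d00000f00004e00004d00004f00004c00003600003700003400003500003a00003b00003800003900001f00001e00001c00001d00002300002100002000002200000500000400000600000700004900004a00004b00004800002f00002c00002e00002d00003300003200003000003100001600001400001500001700001800001b00001900001a00000100000000000200000300004000004200004100004300004400004600004500004700002800002900002b00002a000010000011000013000012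
/-- Orbit certificate for the quartets of the first dodecad. -/
def QPA : ℕ := 0x990000b90000a200008e0000ab00005f00005100008d0000660000cd0000ce00009e00005b0000930000c60000ad00006d0000500000cc0000a40000a400009a00008b00008c0000d100007b0000870000d000006200009b0000c30000920000940000830000a30000820000af0000010000950000750000530000b100001700001500002f0000530000600000c100009f00005a00007800000b00005100005000001200001100002b0000720000290000800000bd0000d200006c0000b600000400006600006500005e00008a00009e0000a50000bf00009900005a00005b0000590000c80000420000af0000bc00001c00001d0000c00000ab0000b10000a80000c10000360000b70000cf00007400005700004000005500001b0000870000180000330000d40000300000db00009c00009a00000c0000d900000e00006b00008d00006d0000c300007800007a0000100000d100007d0000a70000b30000620000a50000db00005d00004800004a0000aa0000ba00008c0000370000260000270000240000250000ce0000a300001f00003d0000d800003f0000d000009400004300006900006800003e00006a0000750000760000270000240000a70000c400001e00000b00005d00005e00005f00006000004600004500004f00004c00008f0000b50000c700005c00003a00003b0000220000390000b40000cb00001c00006400003a00003900003b0000220000980000c800006700007900007f00004a00004b00000000002f00008600002e00000600003300007000003000006e00009500001400008a00001700007d00001b00007b00007c0000010000000000130000030000d30000cd00004100004300004c00004600004500004f0000280000c500002b00002a0000d5000011000016000000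
/-- Orbit certificate for the quartets of the first dodecad. -/
def QTA : ℕ := 0x1000001000001000001000001000000000000000001000000000000000001000001000000000001000001000001000000000000000001000001000000000000000000000000000001000000000001000001000000000000000001000000000000000000000001000000000000000001000000000000000001000000000001000001000001000000000000000001000001000000000000000001000001000001000001000001000001000000000001000000000000000001000000000000000001000001000001000000000000000000000001000001000000000001000001000001000000000001000001000001000001000001000000000000000001000000000000000001000001000001000000000001000001000000000001000000000001000001000000000001000001000001000001000001000000000001000001000000000001000000000001000001000001000000000000000000000000000001000000000000000000000001000001000001000001000001000001000001000001000001000001000000000000000001000001000000000001000000000001000001000001000001000000000001000001000001000000000000000001000001000001000000000001000001000001000001000001000001000000000000000001000001000001000001000000000000000001000000000001000001000000000001000001000001000001000000000001000001000001000001000001000000000000000001000000000001000000000001000000000001000000000001000001000000000001000000000001000000000001000001000000000000000001000000000001000001000000000000000001000000000000000001000000000001000000000000000001000000000001000000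
/-- Orbit certificate for the quartets of the first dodecad. -/
def QRK : ℕ := 0x130000ba0000b500007e0000be0000bf00003900006900001800005500002f00009700007900001d00003b00002a00008500008800003e00008e00008d0000280000bc00002c00004400006e0000710000b400000e0000db00006100001100002500008a0000a00000b700004900003500000c00003c00009e00005000003800009100003300009d00001a0000940000a60000090000630000a300003a00008900000300006b00007d0000980000d60000cc0000820000740000b600004c0000d400001900000b00004100008300009600000700001700001200000a00007a00009b0000ad00005e00004a00001c0000a50000620000c90000bd0000510000bb0000930000da00006700009c0000a80000b900002b00009000001600007000004f00007700008c00004600001f00006c0000290000870000ca0000750000b200006800008600006000006400009a0000950000430000230000530000b800000f00000600001e0000470000080000b00000100000a900002d0000310000c800005a00000500007800002e00009f00009900006d0000a100007b0000b30000260000660000360000730000d000005f00003d00008f0000590000040000540000400000aa0000a20000480000420000c000001b00005c0000c200004d00007f0000c60000140000ac0000d50000200000d20000d80000c40000570000a70000a40000300000210000c50000d30000d700005d0000ae0000cb0000ab00003f0000af0000580000020000320000cd0000d10000d900007600008b00004500008100000d0000b100008400003700002400001500006f00009200003400000100004b0000720000270000560000cf00006500008000005b0000c100004e0000c30000ce00007c0000c700005200006a000022000000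

/-! ## The first dodecad and its hexads -/

theorem DA_zero : get24 DA 0 = 28637 := by decide +kernel

theorem qd0_mem : ofMask 28637 ∈ dodecads := by
  have := DA_mem (k := 0) (by norm_num)
  rwa [DA_zero] at this

/-- The test for masks of hexads on the first dodecad. -/
def isHex (h : ℕ) : Bool := Nat.beq (get24 QHT (Nat.mod h 626)) h && Nat.blt 0 h

theorem k_ht1 : allB 626 (fun s => Nat.beq (get24 QHT s) 0 ||
    (Nat.beq (popc (get24 QHT s)) 6 && Nat.blt (get24 QHW s) 759 &&
      Nat.beq (Nat.land (get24 OA (get24 QHW s)) 28637) (get24 QHT s))) = true := by decide +kernel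

theorem k_ht2 : allB 759 (fun k => bif Nat.beq (popc (Nat.land (get24 OA k) 28637)) 6 then
    isHex (Nat.land (get24 OA k) 28637) else true) = true := by decide +kernel

theorem isHex_mem {h : ℕ} (hh : isHex h = true) : ofMask h ∈ hexadsOn (ofMask 28637) := by
  unfold isHex at hh
  rw [Bool.and_eq_true, Nat.beq_eq, Nat.blt_eq] at hh
  obtain ⟨h1, h2⟩ := hh
  have h3 := allB_spec k_ht1 (Nat.mod h 626) (Nat.mod_lt _ (by norm_num))
  rw [h1] at h3
  simp only [Bool.or_eq_true, Bool.and_eq_true, Nat.beq_eq, Nat.blt_eq] at h3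
  rcases h3 with h3 | ⟨⟨h4, h5⟩, h6⟩
  · omega
  · refine ⟨by rw [card_ofMask, h4], ofMask (get24 OA (get24 QHW (Nat.mod h 626))), OA_mem h5, ?_⟩
    rw [← ofMask_and]
    exact congrArg ofMask h6

theorem mem_hex_isHex {h : ℕ} (hlt : h < 2 ^ 24) (hh : ofMask h ∈ hexadsOn (ofMask 28637)) :
    isHex h = true := by
  obtain ⟨hc, o, ho, e⟩ := hh
  obtain ⟨k, hk, rfl⟩ := (mem_octads_iff o).mp ho
  rw [← ofMask_and] at e
  have e' : Nat.land (get24 OA k) 28637 = h :=
    ofMask_inj (lt_of_le_of_lt Nat.and_le_left (get24_lt _ _)) hlt e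
  have h1 := allB_spec k_ht2 k hk
  rw [e'] at h1
  rw [card_ofMask] at hc
  rw [hc] at h1
  exact h1

/-! ## The triples of the first dodecad -/

theorem k_td2 : allB 2024 (fun k => bif Nat.beq (Nat.land (get24 T3 k) 28637) (get24 T3 k) then
    Nat.blt (get24 QT3I k) 220 && Nat.beq (get24 QTD (get24 QT3I k)) (get24 T3 k) else true) = true := by
  decide +kernel

theorem exists_QTD {t : Finset GolayPt} (hc : t.card = 3) (hs : t ⊆ ofMask 28637) :
    ∃ i, i < 220 ∧ t = ofMask (get24 QTD i) := by
  obtain ⟨k, hk, rfl⟩ := (card_three_iff t).mp hc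
  have h1 := allB_spec k_td2 k hk
  have h2 : Nat.beq (Nat.land (get24 T3 k) 28637) (get24 T3 k) = true :=
    (ofMask_subset_iff' (get24_lt _ _)).mp hs
  rw [h2] at h1
  simp only [cond_true, Bool.and_eq_true, Nat.blt_eq, Nat.beq_eq] at h1
  exact ⟨_, h1.1, by rw [h1.2]⟩

/-- Two triples are compatible: disjoint with union a hexad. -/
def qcmp (i j : ℕ) : Bool :=
  Nat.beq (Nat.land (get24 QTD i) (get24 QTD j)) 0 &&
    isHex (Nat.lor (get24 QTD i) (get24 QTD j))

theorem qcmp_masks {a b : ℕ} (ha : a < 2 ^ 24) (hb : b < 2 ^ 24) (hca : (ofMask a).card = 3)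
    (hcb : (ofMask b).card = 3) (h : ofMask a ∪ ofMask b ∈ hexadsOn (ofMask 28637)) :
    Nat.beq (Nat.land a b) 0 = true ∧ isHex (Nat.lor a b) = true := by
  constructor
  · apply (ofMask_disjoint_iff' ha).mp
    rw [Finset.disjoint_iff_inter_eq_empty, ← Finset.card_eq_zero]
    have h1 := Finset.card_union_add_card_inter (ofMask a) (ofMask b)
    have h2 := h.1
    omega
  · rw [← ofMask_lor] at h
    exact mem_hex_isHex (Nat.or_lt_two_pow ha hb) h

theorem qcmp_of {i j : ℕ} (hci : (ofMask (get24 QTD i)).card = 3)
    (hcj : (ofMask (get24 QTD j)).card = 3)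
    (h : ofMask (get24 QTD i) ∪ ofMask (get24 QTD j) ∈ hexadsOn (ofMask 28637)) :
    qcmp i j = true := by
  obtain ⟨h1, h2⟩ := qcmp_masks (get24_lt _ _) (get24_lt _ _) hci hcj h
  unfold qcmp
  rw [h1, h2]
  rfl

/-! ## The quartets of the first dodecad -/

theorem k_qt : allB 220 (fun m => famMono QQT 4 m && allB 4 (fun i =>
    Nat.beq (popc (get24 QQT (Nat.add (Nat.mul 4 m) i))) 3 &&
    Nat.beq (Nat.land (get24 QQT (Nat.add (Nat.mul 4 m) i)) 28637)
      (get24 QQT (Nat.add (Nat.mul 4 m) i)) &&
    allB 4 (fun i' => Nat.beq i i' || isHex (Nat.lor (get24 QQT (Nat.add (Nat.mul 4 m) i))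
      (get24 QQT (Nat.add (Nat.mul 4 m) i')))))) = true := by decide +kernel

theorem quartet_mono {m : ℕ} (hm : m < 220) : famMono QQT 4 m = true := by
  have h := allB_spec k_qt m hm
  rw [Bool.and_eq_true] at h
  exact h.1

theorem fam_mem_quartets {m : ℕ} (hm : m < 220) : fam QQT 4 m ∈ quartets (ofMask 28637) := by
  have h := allB_spec k_qt m hm
  rw [Bool.and_eq_true] at h
  obtain ⟨h1, h2⟩ := h
  refine ⟨fam_card h1, ?_, ?_⟩
  · intro t ht
    obtain ⟨i, hi, rfl⟩ := mem_fam.mp ht
    have h3 := allB_spec h2 i hi
    simp only [Bool.and_eq_true, Nat.beq_eq] at h3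
    exact ⟨by rw [card_ofMask, h3.1.1], (ofMask_subset_iff (get24_lt _ _)).mpr h3.1.2⟩
  · intro t ht u hu hne
    obtain ⟨i, hi, rfl⟩ := mem_fam.mp ht
    obtain ⟨i', hi', rfl⟩ := mem_fam.mp hu
    have h3 := allB_spec h2 i hi
    rw [Bool.and_eq_true] at h3
    have h4 := allB_spec h3.2 i' hi'
    rw [Bool.or_eq_true, Nat.beq_eq] at h4
    rcases h4 with h4 | h4
    · exact absurd (by rw [h4]) hne
    · rw [← ofMask_lor]; exact isHex_mem h4

/-- The mask `x` occurs in the quartet `m`. -/
def memQ (m x : ℕ) : Bool := anyB 4 (fun i => Nat.beq (get24 QQT (Nat.add (Nat.mul 4 m) i)) x)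

theorem memQ_mem {m x : ℕ} (h : memQ m x = true) : ofMask x ∈ fam QQT 4 m := by
  obtain ⟨i, hi, e⟩ := anyB_iff.mp h
  rw [Nat.beq_eq] at e
  exact mem_fam.mpr ⟨i, hi, by rw [e]⟩

theorem mem_memQ {m x : ℕ} (hx : x < 2 ^ 24) (h : ofMask x ∈ fam QQT 4 m) : memQ m x = true := by
  obtain ⟨i, hi, e⟩ := mem_fam.mp h
  exact anyB_iff.mpr ⟨i, hi, by rw [Nat.beq_eq]; exact (ofMask_inj hx (get24_lt _ _) e).symm⟩

/-- The index of the quartet through the triples `i` and `j`. -/
def qsel (i j : ℕ) : ℕ := get24 QP (Nat.add (Nat.mul 220 i) j)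

/-- The check that the quartet through two compatible triples exists and contains every triple
compatible with both. -/
def qK (i : ℕ) : Bool := allB 220 (fun j => bif qcmp i j then
    (Nat.blt (qsel i j) 220 && memQ (qsel i j) (get24 QTD i) && memQ (qsel i j) (get24 QTD j) &&
      allB 220 (fun k => bif qcmp i k then (bif qcmp j k then memQ (qsel i j) (get24 QTD k)
        else true) else true)) else true)

set_option maxHeartbeats 0 in
theorem k_K : allB 220 qK = true := by decide +kernel

theorem qsel_spec {i j : ℕ} (hi : i < 220) (hj : j < 220) (hq : qcmp i j = true) :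
    qsel i j < 220 ∧ ofMask (get24 QTD i) ∈ fam QQT 4 (qsel i j) ∧
      ofMask (get24 QTD j) ∈ fam QQT 4 (qsel i j) ∧
      ∀ k, k < 220 → qcmp i k = true → qcmp j k = true →
        ofMask (get24 QTD k) ∈ fam QQT 4 (qsel i j) := by
  have h1 := allB_spec (allB_spec k_K i hi) j hj
  rw [hq] at h1
  simp only [cond_true, Bool.and_eq_true, Nat.blt_eq] at h1
  obtain ⟨⟨⟨h2, h3⟩, h4⟩, h5⟩ := h1
  refine ⟨h2, memQ_mem h3, memQ_mem h4, ?_⟩
  intro k hk c1 c2
  have h6 := allB_spec h5 k hk
  rw [c1, c2] at h6
  exact memQ_mem h6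

theorem quartet_of_pair {Q : Finset (Finset GolayPt)} (hQ : Q ∈ quartets (ofMask 28637)) {i j : ℕ}
    (hi : i < 220) (hj : j < 220) (hti : ofMask (get24 QTD i) ∈ Q)
    (htj : ofMask (get24 QTD j) ∈ Q) (hne : ofMask (get24 QTD i) ≠ ofMask (get24 QTD j)) :
    qsel i j < 220 ∧ Q = fam QQT 4 (qsel i j) := by
  obtain ⟨hc, hmem, hpair⟩ := hQ
  have hq : qcmp i j = true := qcmp_of (hmem _ hti).1 (hmem _ htj).1 (hpair _ hti _ htj hne)
  obtain ⟨h2, h3, h4, h5⟩ := qsel_spec hi hj hq
  refine ⟨h2, ?_⟩
  have hsub : Q ⊆ fam QQT 4 (qsel i j) := by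
    intro v hv
    obtain ⟨k, hk, rfl⟩ := exists_QTD (hmem v hv).1 (hmem v hv).2
    by_cases e1 : ofMask (get24 QTD k) = ofMask (get24 QTD i)
    · rw [e1]; exact h3
    by_cases e2 : ofMask (get24 QTD k) = ofMask (get24 QTD j)
    · rw [e2]; exact h4
    exact h5 k hk (qcmp_of (hmem _ hti).1 (hmem _ hv).1 (hpair _ hti _ hv (Ne.symm e1)))
      (qcmp_of (hmem _ htj).1 (hmem _ hv).1 (hpair _ htj _ hv (Ne.symm e2)))
  exact Finset.eq_of_subset_of_card_le hsub (by rw [hc]; exact fam_card_le _ _ _)

theorem exists_quartet_index {Q : Finset (Finset GolayPt)} (hQ : Q ∈ quartets (ofMask 28637)) :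
    ∃ m, m < 220 ∧ Q = fam QQT 4 m := by
  have hc := hQ.1
  obtain ⟨t, ht, u, hu, hne⟩ := Finset.one_lt_card.mp (by rw [hc]; norm_num)
  obtain ⟨i, hi, rfl⟩ := exists_QTD (hQ.2.1 t ht).1 (hQ.2.1 t ht).2
  obtain ⟨j, hj, rfl⟩ := exists_QTD (hQ.2.1 u hu).1 (hQ.2.1 u hu).2
  obtain ⟨h1, h2⟩ := quartet_of_pair hQ hi hj ht hu hne
  exact ⟨_, h1, h2⟩

theorem mem_quartets_iff (Q : Finset (Finset GolayPt)) :
    Q ∈ quartets (ofMask 28637) ↔ ∃ m, m < 220 ∧ Q = fam QQT 4 m := by
  constructor
  · exact exists_quartet_index
  · rintro ⟨m, hm, rfl⟩; exact fam_mem_quartets hm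

theorem k_qinj : allB 220 (fun m => allB 220 (fun m' => Nat.beq m m' ||
    !(memQ m' (get24 QQT (Nat.add (Nat.mul 4 m) 0)) &&
      memQ m' (get24 QQT (Nat.add (Nat.mul 4 m) 1))))) = true := by decide +kernel

theorem fam_quartet_inj (m m' : ℕ) (hm : m < 220) (hm' : m' < 220)
    (e : fam QQT 4 m = fam QQT 4 m') : m = m' := by
  have h := allB_spec (allB_spec k_qinj m hm) m' hm'
  rw [Bool.or_eq_true, Nat.beq_eq] at h
  rcases h with h | h
  · exact h
  · exfalso
    have a0 : memQ m' (get24 QQT (Nat.add (Nat.mul 4 m) 0)) = true :=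
      mem_memQ (get24_lt _ _) (e ▸ mem_fam.mpr ⟨0, by norm_num, rfl⟩)
    have a1 : memQ m' (get24 QQT (Nat.add (Nat.mul 4 m) 1)) = true :=
      mem_memQ (get24_lt _ _) (e ▸ mem_fam.mpr ⟨1, by norm_num, rfl⟩)
    rw [a0, a1] at h
    exact absurd h (by decide)

theorem k_cnt220 : cntC 220 (fun _ => true) = 220 := by decide +kernel

theorem ncard_quartets_base : (quartets (ofMask 28637)).ncard = 220 := by
  rw [ncard_eq_cntC_of_inj (fun m => fam QQT 4 m) 220 fam_quartet_inj (quartets (ofMask 28637))
    (fun _ => true) (fun s => by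
      rw [mem_quartets_iff]
      constructor
      · rintro ⟨m, hm, e⟩; exact ⟨m, hm, rfl, e⟩
      · rintro ⟨m, hm, -, e⟩; exact ⟨m, hm, e⟩)]
  exact k_cnt220

/-! ## Transport -/

theorem smul_hexadsOn {g : Equiv.Perm GolayPt} (hg : g ∈ M24) {d h : Finset GolayPt}
    (hh : h ∈ hexadsOn d) : g • h ∈ hexadsOn (g • d) := by
  obtain ⟨hc, o, ho, rfl⟩ := hh
  refine ⟨by rw [Finset.card_smul_finset]; exact hc, g • o, (smul_mem_octads hg).mpr ho, ?_⟩
  rw [Finset.smul_finset_inter]

theorem smul_mem_quartets {g : Equiv.Perm GolayPt} (hg : g ∈ M24) {d : Finset GolayPt}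
    {Q : Finset (Finset GolayPt)} (hQ : Q ∈ quartets d) : g • Q ∈ quartets (g • d) := by
  obtain ⟨hc, hmem, hpair⟩ := hQ
  refine ⟨by rw [Finset.card_smul_finset]; exact hc, ?_, ?_⟩
  · intro t ht
    obtain ⟨t', ht', rfl⟩ := Finset.mem_smul_finset.mp ht
    exact ⟨by rw [Finset.card_smul_finset]; exact (hmem t' ht').1,
      Finset.smul_finset_subset_smul_finset (hmem t' ht').2⟩
  · intro t ht u hu hne
    obtain ⟨t', ht', rfl⟩ := Finset.mem_smul_finset.mp ht
    obtain ⟨u', hu', rfl⟩ := Finset.mem_smul_finset.mp hu
    rw [← Finset.smul_finset_union]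
    exact smul_hexadsOn hg (hpair t' ht' u' hu' (fun e => hne (by rw [e])))

theorem mem_quartets_smul_iff {g : Equiv.Perm GolayPt} (hg : g ∈ M24) {d : Finset GolayPt}
    {Q : Finset (Finset GolayPt)} : Q ∈ quartets (g • d) ↔ g⁻¹ • Q ∈ quartets d := by
  constructor
  · intro h
    have := smul_mem_quartets (inv_mem hg) h
    rwa [inv_smul_smul] at this
  · intro h
    have := smul_mem_quartets hg h
    rwa [smul_inv_smul] at this

theorem smul_quartets (γ : ↥M24) (d : Finset GolayPt) :
    γ • quartets d = quartets ((γ : Equiv.Perm GolayPt) • d) := by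
  ext y
  rw [Set.mem_smul_set_iff_inv_smul_mem, mem_quartets_smul_iff γ.2]
  rfl

/-! ## The stabilizer of the first dodecad is transitive on its quartets -/

theorem k_qats : sysFamOK M12G QQT 4 220 QATS 2 = true := by decide +kernel

theorem k_qcert : certOK (tact QATS 220) 2 IDA QPA QTA 0 QRK 220 = true := by decide +kernel

theorem quartet_base_trans (k : ℕ) (hk : k < 220) :
    ∃ g ∈ M24, g • ofMask 28637 = ofMask 28637 ∧ g • fam QQT 4 0 = fam QQT 4 k := by
  obtain ⟨g, hg, e⟩ := fam_orbit M12G M12Q 2 M12_sys (by norm_num) k_qats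
    (M24 ⊓ MulAction.stabilizer (Equiv.Perm GolayPt) (ofMask 28637))
    (fun j _ => ⟨genOf_mem_M24 M12G M12Q 2 M12_sys M12_m24 j, by
      show genOf M12G M12Q 2 M12_sys j ∈ MulAction.stabilizer (Equiv.Perm GolayPt) (ofMask 28637)
      rw [MulAction.mem_stabilizer_iff]
      have := genOf_fix M12G M12Q 2 M12_sys M12_fix j
      rwa [DA_zero] at this⟩)
    QPA QTA 0 QRK k_qcert k hk (by rw [get24_zero]; norm_num)
  rw [get24_zero] at e
  exact ⟨g, hg.1, MulAction.mem_stabilizer_iff.mp hg.2, e⟩

/-- Every quartet of every dodecad is the image of the first quartet of the first dodecad. -/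
theorem exists_M24_quartet {d : Finset GolayPt} (hd : d ∈ dodecads)
    {Q : Finset (Finset GolayPt)} (hQ : Q ∈ quartets d) :
    ∃ g ∈ M24, g • ofMask 28637 = d ∧ g • fam QQT 4 0 = Q := by
  obtain ⟨g0, hg0, rfl⟩ := M24_trans_dodecads qd0_mem hd
  obtain ⟨m, hm, e⟩ := exists_quartet_index ((mem_quartets_smul_iff hg0).mp hQ)
  obtain ⟨h, hh, e1, e2⟩ := quartet_base_trans m hm
  refine ⟨g0 * h, mul_mem hg0 hh, ?_, ?_⟩
  · rw [mul_smul, e1]
  · rw [mul_smul, e2, ← e, smul_inv_smul]

theorem ncard_quartets {d : Finset GolayPt} (hd : d ∈ dodecads) : (quartets d).ncard = 220 := by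
  obtain ⟨g, hg, rfl⟩ := M24_trans_dodecads qd0_mem hd
  rw [ncard_transport g (quartets (g • ofMask 28637)) (quartets (ofMask 28637))
    (fun b => mem_quartets_smul_iff hg)]
  exact ncard_quartets_base

theorem quartets_trans {d : Finset GolayPt} (hd : d ∈ dodecads) {Q Q' : Finset (Finset GolayPt)}
    (hQ : Q ∈ quartets d) (hQ' : Q' ∈ quartets d) :
    ∃ g : Equiv.Perm GolayPt, g ∈ M24 ∧ g • d = d ∧ g • Q = Q' := by
  obtain ⟨g1, hg1, e1, f1⟩ := exists_M24_quartet hd hQ
  obtain ⟨g2, hg2, e2, f2⟩ := exists_M24_quartet hd hQ'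
  refine ⟨g2 * g1⁻¹, mul_mem hg2 (inv_mem hg1), ?_, ?_⟩
  · rw [mul_smul, ← e1, inv_smul_smul, e1, e2]
  · rw [mul_smul, ← f1, inv_smul_smul, f2]

/-! ## Two compatible triples lie in exactly one quartet -/

theorem quartet_pair_base {t u : Finset GolayPt} (ht : t.card = 3) (hu : u.card = 3)
    (hh : t ∪ u ∈ hexadsOn (ofMask 28637)) :
    ∃ Q0, Q0 ∈ quartets (ofMask 28637) ∧ t ∈ Q0 ∧ u ∈ Q0 ∧
      ∀ Q ∈ quartets (ofMask 28637), t ∈ Q → u ∈ Q → Q = Q0 := by
  have hsub : t ∪ u ⊆ ofMask 28637 := by
    obtain ⟨-, o, -, e⟩ := hh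
    rw [← e]; exact Finset.inter_subset_right
  obtain ⟨i, hi, rfl⟩ := exists_QTD ht (Finset.union_subset_left hsub)
  obtain ⟨j, hj, rfl⟩ := exists_QTD hu (Finset.union_subset_right hsub)
  have hq : qcmp i j = true := qcmp_of ht hu hh
  have hne : ofMask (get24 QTD i) ≠ ofMask (get24 QTD j) := by
    intro e
    have h1 := hh.1
    rw [e, Finset.union_self, hu] at h1
    omega
  obtain ⟨h2, h3, h4, -⟩ := qsel_spec hi hj hq
  refine ⟨fam QQT 4 (qsel i j), fam_mem_quartets h2, h3, h4, ?_⟩
  intro Q hQ hti htj
  exact (quartet_of_pair hQ hi hj hti htj hne).2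

theorem quartet_pair {d : Finset GolayPt} (hd : d ∈ dodecads) {t u : Finset GolayPt}
    (ht : t.card = 3) (hu : u.card = 3) (hh : t ∪ u ∈ hexadsOn d) :
    ∃ Q0, Q0 ∈ quartets d ∧ t ∈ Q0 ∧ u ∈ Q0 ∧ ∀ Q ∈ quartets d, t ∈ Q → u ∈ Q → Q = Q0 := by
  obtain ⟨g, hg, rfl⟩ := M24_trans_dodecads qd0_mem hd
  have hh' : g⁻¹ • t ∪ g⁻¹ • u ∈ hexadsOn (ofMask 28637) := by
    have := smul_hexadsOn (inv_mem hg) hh
    rwa [inv_smul_smul, Finset.smul_finset_union] at this
  obtain ⟨Q0, h1, h2, h3, h4⟩ := quartet_pair_base (t := g⁻¹ • t) (u := g⁻¹ • u)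
    (by rw [Finset.card_smul_finset]; exact ht) (by rw [Finset.card_smul_finset]; exact hu) hh'
  refine ⟨g • Q0, smul_mem_quartets hg h1, ?_, ?_, ?_⟩
  · have := Finset.smul_mem_smul_finset (a := g) h2
    rwa [smul_inv_smul] at this
  · have := Finset.smul_mem_smul_finset (a := g) h3
    rwa [smul_inv_smul] at this
  · intro Q hQ hti htj
    have e := h4 (g⁻¹ • Q) ((mem_quartets_smul_iff hg).mp hQ)
      (Finset.smul_mem_smul_finset hti) (Finset.smul_mem_smul_finset htj)
    rw [← e, smul_inv_smul]

/-! ## Orbits of the intersection of two stabilizers -/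

theorem mem_orbit_stab2_iff {G X Y Z : Type*} [Group G] [MulAction G X] [MulAction G Y]
    [MulAction G Z] (d : X) (Q : Y) (x y : Z) :
    y ∈ MulAction.orbit ↥(MulAction.stabilizer G d ⊓ MulAction.stabilizer G Q) x ↔
      ∃ g : G, g • d = d ∧ g • Q = Q ∧ g • x = y := by
  constructor
  · rintro ⟨⟨g, hg⟩, rfl⟩
    exact ⟨g, MulAction.mem_stabilizer_iff.mp hg.1, MulAction.mem_stabilizer_iff.mp hg.2, rfl⟩
  · rintro ⟨g, h1, h2, rfl⟩
    exact ⟨⟨g, MulAction.mem_stabilizer_iff.mpr h1, MulAction.mem_stabilizer_iff.mpr h2⟩, rfl⟩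

theorem orbit_stab2_smul {G X Y Z : Type*} [Group G] [MulAction G X] [MulAction G Y]
    [MulAction G Z] (g : G) (d : X) (Q : Y) (x : Z) :
    MulAction.orbit ↥(MulAction.stabilizer G (g • d) ⊓ MulAction.stabilizer G (g • Q)) (g • x)
      = g • MulAction.orbit ↥(MulAction.stabilizer G d ⊓ MulAction.stabilizer G Q) x := by
  ext y
  rw [mem_orbit_stab2_iff, Set.mem_smul_set]
  constructor
  · rintro ⟨h, h1, h2, rfl⟩
    refine ⟨(g⁻¹ * h * g) • x, (mem_orbit_stab2_iff d Q x _).mpr ⟨g⁻¹ * h * g, ?_, ?_, rfl⟩, ?_⟩
    · rw [mul_smul, mul_smul, h1, inv_smul_smul]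
    · rw [mul_smul, mul_smul, h2, inv_smul_smul]
    · rw [mul_smul, mul_smul, smul_inv_smul]
  · rintro ⟨z, hz, rfl⟩
    obtain ⟨k, hk1, hk2, rfl⟩ := (mem_orbit_stab2_iff d Q x z).mp hz
    refine ⟨g * k * g⁻¹, ?_, ?_, ?_⟩
    · rw [mul_smul, mul_smul, inv_smul_smul, hk1]
    · rw [mul_smul, mul_smul, inv_smul_smul, hk2]
    · rw [mul_smul, mul_smul, inv_smul_smul]

end Cfsg.Agent.Helper12
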