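import Mathlib

set_option autoImplicit false

namespace Cfsg.Agent.S4016P

/-- A `p'`-element of the normalizer of a cyclic `p`-subgroup `P` which commutes with a
nontrivial element of `P` centralizes `P`. -/
theorem cyc_fix_cent {G : Type*} [Group G] [Finite G] {p : ℕ} [Fact p.Prime] (P : Subgroup G)
    (hP : IsPGroup p P) (hcyc : IsCyclic P) {x : G} (hx : x ∈ Subgroup.normalizer (P : Set G))
    (hxo : (orderOf x).Coprime p) {u : G} (hu : u ∈ P) (hu1 : u ≠ 1) (hxu : x * u = u * x) :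
    x ∈ Subgroup.centralizer (P : Set G) := by
  have hp : p.Prime := Fact.out
  obtain ⟨g, hg⟩ := hcyc.exists_generator
  have hxg : x * (g : G) * x⁻¹ ∈ P := (Subgroup.mem_normalizer_iff.mp hx g).mp g.2
  obtain ⟨m, hm⟩ : ∃ m : ℕ, (g : G) ^ m = x * g * x⁻¹ := by
    have h1 := hg ⟨_, hxg⟩
    rw [← mem_powers_iff_mem_zpowers] at h1
    obtain ⟨m, hm⟩ := h1
    exact ⟨m, by simpa using congrArg Subtype.val hm⟩
  have hall : ∀ y ∈ P, x * y * x⁻¹ = y ^ m := by
    intro y hy
    obtain ⟨j, hj⟩ := Subgroup.mem_zpowers_iff.mp (hg ⟨y, hy⟩)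
    have hj' : (g : G) ^ j = y := by simpa using congrArg Subtype.val hj
    rw [← hj', ← conj_zpow, ← hm, ← zpow_natCast, ← zpow_natCast, ← zpow_mul, ← zpow_mul,
      mul_comm]
  have hiter : ∀ i : ℕ, ∀ y ∈ P, x ^ i * y * (x ^ i)⁻¹ = y ^ (m ^ i) := by
    intro i
    induction i with
    | zero => intro y hy; simp
    | succ i ih =>
      intro y hy
      have h1 : x ^ (i + 1) * y * (x ^ (i + 1))⁻¹ = x * (x ^ i * y * (x ^ i)⁻¹) * x⁻¹ := by
        rw [pow_succ']; group
      rw [h1, ih y hy, hall _ (pow_mem hy _), ← pow_mul, ← pow_succ]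
  -- `m ≡ 1 mod p`
  have hum : u ^ m = u := by
    rw [← hall u hu, hxu, mul_inv_cancel_right]
  have hdvd : (p : ℤ) ∣ (m : ℤ) - 1 := by
    have h1 : u ^ ((m : ℤ) - 1) = 1 := by
      rw [zpow_sub, zpow_natCast, hum, zpow_one, mul_inv_cancel]
    have h2 : (orderOf u : ℤ) ∣ (m : ℤ) - 1 := orderOf_dvd_iff_zpow_eq_one.mpr h1
    obtain ⟨k, hk⟩ := (IsPGroup.iff_orderOf.mp hP) ⟨u, hu⟩
    have hk' : orderOf u = p ^ k := by
      rw [← hk]; exact (Subgroup.orderOf_mk u hu).symm
    have hk0 : k ≠ 0 := by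
      rintro rfl
      rw [pow_zero, orderOf_eq_one_iff] at hk'
      exact hu1 hk'
    have h3 : (p : ℤ) ∣ (orderOf u : ℤ) := by
      rw [hk']
      exact_mod_cast dvd_pow_self p hk0
    exact h3.trans h2
  obtain ⟨n, hn⟩ := hP.exists_card_eq
  have hbig : ((p : ℤ) ^ (n + 1)) ∣ (m : ℤ) ^ p ^ n - 1 ^ p ^ n :=
    dvd_sub_pow_of_dvd_sub hdvd n
  rw [one_pow] at hbig
  have hcard : ((Nat.card P : ℕ) : ℤ) ∣ (m : ℤ) ^ p ^ n - 1 := by
    rw [hn]
    refine Dvd.dvd.trans ?_ hbig
    push_cast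
    exact pow_dvd_pow _ (Nat.le_succ n)
  have hfix : ∀ y ∈ P, y ^ (m ^ p ^ n) = y := by
    intro y hy
    have h1 : (orderOf y : ℤ) ∣ (m : ℤ) ^ p ^ n - 1 := by
      refine Dvd.dvd.trans ?_ hcard
      have : orderOf y ∣ Nat.card P := by
        rw [← Subgroup.orderOf_mk y hy]
        exact orderOf_dvd_natCard _
      exact_mod_cast this
    have h2 : y ^ ((m : ℤ) ^ p ^ n - 1) = 1 := orderOf_dvd_iff_zpow_eq_one.mp h1
    have h3 : y ^ (((m ^ p ^ n : ℕ) : ℤ)) = y := by
      have : (((m ^ p ^ n : ℕ) : ℤ)) = ((m : ℤ) ^ p ^ n - 1) + 1 := by push_cast; ring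
      rw [this, zpow_add, h2, one_mul, zpow_one]
    rwa [zpow_natCast] at h3
  have hcen : x ^ (p ^ n) ∈ Subgroup.centralizer (P : Set G) := by
    rw [Subgroup.mem_centralizer_iff]
    intro y hy
    have h1 := hiter (p ^ n) y hy
    rw [hfix y hy] at h1
    exact (mul_inv_eq_iff_eq_mul.mp h1).symm
  have hcop : (p ^ n).Coprime (orderOf x) := (Nat.Coprime.pow_right n hxo).symm
  obtain ⟨j, hj⟩ := exists_pow_eq_self_of_coprime hcop
  rw [← hj]
  exact pow_mem hcen j

/-- For a cyclic Sylow `p`-subgroup `P`, `|N(P)|` divides `(p - 1) * |C(P)|`. -/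
theorem card_norm_dvd {G : Type*} [Group G] [Finite G] {p : ℕ} [Fact p.Prime] (P : Sylow p G)
    (hcyc : IsCyclic P) :
    Nat.card (Subgroup.normalizer ((P : Subgroup G) : Set G)) ∣
      (p - 1) * Nat.card (Subgroup.centralizer ((P : Subgroup G) : Set G)) := by
  have hp : p.Prime := Fact.out
  have hPC : (P : Subgroup G) ≤ Subgroup.centralizer ((P : Subgroup G) : Set G) := by
    have : IsMulCommutative (P : Subgroup G) := by
      have := hcyc
      exact ⟨⟨fun a b => IsCyclic.commGroup.mul_comm a b⟩⟩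
    exact Subgroup.le_centralizer (P : Subgroup G)
  have hCN : Subgroup.centralizer ((P : Subgroup G) : Set G) ≤
      Subgroup.normalizer ((P : Subgroup G) : Set G) :=
    Subgroup.centralizer_le_normalizer _
  have key := Subgroup.card_dvd_of_injective _
    (QuotientGroup.kerLift_injective (P : Subgroup G).normalizerMonoidHom)
  rw [Subgroup.normalizerMonoidHom_ker, ← Subgroup.index, ← Subgroup.relIndex] at key
  have hcop : ((Subgroup.centralizer ((P : Subgroup G) : Set G)).relIndex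
      (Subgroup.normalizer ((P : Subgroup G) : Set G))).Coprime p := by
    have h1 : (Subgroup.centralizer ((P : Subgroup G) : Set G)).relIndex
        (Subgroup.normalizer ((P : Subgroup G) : Set G)) ∣ (P : Subgroup G).index :=
      (Subgroup.relIndex_dvd_of_le_left _ hPC).trans
        (Subgroup.relIndex_dvd_index_of_le Subgroup.le_normalizer)
    have h2 : ¬ p ∣ (P : Subgroup G).index := P.not_dvd_index
    exact Nat.Coprime.coprime_dvd_left h1 ((Nat.Prime.coprime_iff_not_dvd hp).mpr h2).symm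
  have hrel : (Subgroup.centralizer ((P : Subgroup G) : Set G)).relIndex
      (Subgroup.normalizer ((P : Subgroup G) : Set G)) ∣ p - 1 := by
    obtain ⟨k, hk⟩ := P.2.exists_card_eq
    rcases Nat.eq_zero_or_pos k with h0 | h0
    · rw [hcyc.card_mulAut, hk, h0, pow_zero, Nat.totient_one] at key
      exact key.trans (one_dvd _)
    · rw [hcyc.card_mulAut, hk, Nat.totient_prime_pow hp h0] at key
      exact (Nat.Coprime.pow_right _ hcop).dvd_of_dvd_mul_left key
  have hmul : Nat.card (Subgroup.normalizer ((P : Subgroup G) : Set G)) =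
      (Subgroup.centralizer ((P : Subgroup G) : Set G)).relIndex
        (Subgroup.normalizer ((P : Subgroup G) : Set G)) *
      Nat.card (Subgroup.centralizer ((P : Subgroup G) : Set G)) := by
    have h := Subgroup.relIndex_mul_relIndex _ _ _
      (bot_le : (⊥ : Subgroup G) ≤ Subgroup.centralizer ((P : Subgroup G) : Set G)) hCN
    rw [Subgroup.relIndex_bot_left, Subgroup.relIndex_bot_left] at h
    rw [← h, mul_comm]
  rw [hmul]
  exact Nat.mul_dvd_mul hrel dvd_rfl

end Cfsg.Agent.S4016P
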