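import Mathlib
import Cfsg.Prelude.Def_Transfer

set_option autoImplicit false

namespace Cfsg.Agent.S4016P

/-- If all `p'`-subgroups are abelian, `q ≠ p` and `Q` is a Sylow `q`-subgroup, then every
`p'`-element of `N(Q)` commutes with every element of `Q`. -/
theorem pprime_comm_sylow {G : Type*} [Group G] [Finite G] {p : ℕ} [Fact p.Prime]
    (hab : ∀ H : Subgroup G, ¬ p ∣ Nat.card H → IsMulCommutative H)
    {q : ℕ} [Fact q.Prime] (hqp : q ≠ p) (Q : Sylow q G) {x : G}
    (hx : x ∈ Subgroup.normalizer ((Q : Subgroup G) : Set G)) (hxo : (orderOf x).Coprime p)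
    {y : G} (hy : y ∈ (Q : Subgroup G)) : x * y = y * x := by
  have hp : p.Prime := Fact.out
  have hq : q.Prime := Fact.out
  set M : Subgroup G := Subgroup.normalizer ((Q : Subgroup G) : Set G) with hM
  have hQM : (Q : Subgroup G) ≤ M := Subgroup.le_normalizer
  let QM : Subgroup M := (Q : Subgroup G).subgroupOf M
  haveI hQMn : QM.Normal := Subgroup.normal_in_normalizer
  let xM : M := ⟨x, hx⟩
  let Z : Subgroup M := Subgroup.zpowers xM
  let H' : Subgroup M := QM ⊔ Z
  -- the order of `H'` is prime to `p`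
  have hQMp : IsPGroup q QM := Q.2.comap_subtype
  have h1 : ¬ p ∣ Nat.card QM := by
    obtain ⟨k, hk⟩ := hQMp.exists_card_eq
    rw [hk]
    intro hdvd
    have := (Nat.prime_dvd_prime_iff_eq hp hq).mp (hp.dvd_of_dvd_pow hdvd)
    exact hqp this.symm
  have h2 : QM.relIndex H' = QM.relIndex Z := Subgroup.relIndex_sup_left Z QM
  have h3 : QM.relIndex Z ∣ orderOf x := by
    have h := Subgroup.relIndex_dvd_card QM Z
    have hc : Nat.card Z = orderOf x := by
      rw [Nat.card_zpowers]
      exact Subgroup.orderOf_mk x hx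
    rwa [hc] at h
  have h4 : Nat.card H' = Nat.card QM * QM.relIndex H' := by
    have h := Subgroup.relIndex_mul_relIndex _ _ _ (bot_le : (⊥ : Subgroup M) ≤ QM)
      (le_sup_left : QM ≤ H')
    rw [Subgroup.relIndex_bot_left, Subgroup.relIndex_bot_left] at h
    exact h.symm
  have h5 : ¬ p ∣ Nat.card (H'.map M.subtype) := by
    rw [Subgroup.card_subtype, h4, h2]
    intro hdvd
    rcases (Nat.Prime.dvd_mul hp).mp hdvd with h | h
    · exact h1 h
    · have h6 : p ∣ orderOf x := h.trans h3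
      have h7 : p ∣ Nat.gcd (orderOf x) p := Nat.dvd_gcd h6 dvd_rfl
      rw [Nat.Coprime] at hxo
      rw [hxo] at h7
      exact hp.one_lt.ne' (Nat.dvd_one.mp h7)
  have hcomm := hab _ h5
  have hxH : x ∈ H'.map M.subtype :=
    ⟨xM, (le_sup_right : Z ≤ H') (Subgroup.mem_zpowers xM), rfl⟩
  have hyH : y ∈ H'.map M.subtype :=
    ⟨⟨y, hQM hy⟩, (le_sup_left : QM ≤ H') (Subgroup.mem_subgroupOf.mpr hy), rfl⟩
  have h8 := hcomm.is_comm.comm ⟨x, hxH⟩ ⟨y, hyH⟩
  exact congrArg Subtype.val h8

/-- Key step: with a complement `H` to a Sylow `p`-subgroup `R` of `N(Q)`, an element of `Q`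
commuting with `R` commutes with all of `N(Q)`. -/
theorem comm_norm_of_comm_sylow {G : Type*} [Group G] [Finite G] {p : ℕ} [Fact p.Prime]
    (hab : ∀ H : Subgroup G, ¬ p ∣ Nat.card H → IsMulCommutative H)
    {q : ℕ} [Fact q.Prime] (hqp : q ≠ p) (Q : Sylow q G)
    (R : Sylow p (Subgroup.normalizer ((Q : Subgroup G) : Set G)))
    (H : Subgroup (Subgroup.normalizer ((Q : Subgroup G) : Set G)))
    (hc : H.IsComplement' (R : Subgroup (Subgroup.normalizer ((Q : Subgroup G) : Set G))))
    {y : G} (hy : y ∈ (Q : Subgroup G))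
    (hyR : ∀ r ∈ (R : Subgroup (Subgroup.normalizer ((Q : Subgroup G) : Set G))),
      (r : G) * y = y * r) :
    ∀ n ∈ Subgroup.normalizer ((Q : Subgroup G) : Set G), n * y = y * n := by
  have hp : p.Prime := Fact.out
  intro n hn
  obtain ⟨⟨⟨h, hh⟩, ⟨r, hr⟩⟩, hhr, -⟩ :=
    (Subgroup.isComplement_iff_existsUnique.mp hc) ⟨n, hn⟩
  simp only at hhr
  have hn' : n = (h : G) * (r : G) := by
    have := congrArg Subtype.val hhr
    simpa using this.symm
  -- `h` is a `p'`-element
  have hcard : (R : Subgroup (Subgroup.normalizer ((Q : Subgroup G) : Set G))).index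
      = Nat.card H := hc.index_eq_card
  have hho : (orderOf (h : G)).Coprime p := by
    have h1 : orderOf (h : G) ∣ Nat.card H := by
      have h2 : orderOf (⟨h, hh⟩ : H) ∣ Nat.card H := orderOf_dvd_natCard _
      rw [Subgroup.orderOf_mk] at h2
      rwa [Subgroup.orderOf_coe] at *
    rw [← hcard] at h1
    have h3 : ¬ p ∣ (R : Subgroup (Subgroup.normalizer ((Q : Subgroup G) : Set G))).index :=
      R.not_dvd_index
    exact Nat.Coprime.coprime_dvd_left h1 ((Nat.Prime.coprime_iff_not_dvd hp).mpr h3).symm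
  have e1 : (h : G) * y = y * h := pprime_comm_sylow hab hqp Q h.2 hho hy
  have e2 : (r : G) * y = y * r := hyR r hr
  rw [hn', mul_assoc, e2, ← mul_assoc, e1, mul_assoc]

/-- Fixed point congruence for a Sylow `p`-subgroup of `N(Q)` acting on `Q`. -/
theorem card_mod_of_fixed {G : Type*} [Group G] [Finite G] {p : ℕ} [Fact p.Prime]
    (Q : Subgroup G) (R : Subgroup (Subgroup.normalizer (Q : Set G))) (hR : IsPGroup p R)
    (hfix : ∀ y ∈ Q, (∀ r ∈ R, (r : G) * y = y * r) → y = 1) : Nat.card Q % p = 1 := by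
  have hp : p.Prime := Fact.out
  have h := hR.card_modEq_card_fixedPoints (↥Q)
  have hfp : MulAction.fixedPoints (↥R) (↥Q) = {1} := by
    ext y
    simp only [MulAction.mem_fixedPoints, Set.mem_singleton_iff]
    constructor
    · intro hy
      have : (y : G) = 1 := by
        apply hfix y y.2
        intro r hr
        have h1 := hy ⟨r, hr⟩
        have h2 : (r : G) * (y : G) * (r : G)⁻¹ = (y : G) := congrArg Subtype.val h1
        calc (r : G) * (y : G) = (r : G) * (y : G) * (r : G)⁻¹ * r := by group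
          _ = (y : G) * r := by rw [h2]
      exact Subtype.ext this
    · rintro rfl r
      exact smul_one r
  rw [hfp] at h
  have h1 : Nat.card (({1} : Set (↥Q)) : Type _) = 1 := by simp
  rw [h1] at h
  have h2 : Nat.card Q % p = 1 % p := h
  rw [h2]
  exact Nat.mod_eq_of_lt hp.one_lt

/-- Piece (3): for `q ≠ p`, the order of a Sylow `q`-subgroup is `≡ 1 mod p`. -/
theorem sylow_q_mod {G : Type*} [Group G] [Finite G] {p : ℕ} [Fact p.Prime] [IsSimpleGroup G]
    (hna : ∃ a b : G, a * b ≠ b * a)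
    (hab : ∀ H : Subgroup G, ¬ p ∣ Nat.card H → IsMulCommutative H)
    (hmin : ∀ H : Subgroup G, H ≠ ⊤ → ∀ P1 : Sylow p H,
      Cfsg.HasNormalPComplement p H ∨ (P1 : Subgroup H).Normal)
    (hT : ∀ (q : ℕ) [Fact q.Prime] (Q : Sylow q G), IsMulCommutative Q → ∀ y ∈ Q,
      (∀ n ∈ Subgroup.normalizer ((Q : Subgroup G) : Set G), n * y = y * n) → y = 1)
    {q : ℕ} [Fact q.Prime] (hqp : q ≠ p) (Q : Sylow q G) : Nat.card Q % p = 1 := by
  have hp : p.Prime := Fact.out
  have hq : q.Prime := Fact.out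
  have hQp : ¬ p ∣ Nat.card (Q : Subgroup G) := by
    obtain ⟨k, hk⟩ := Q.2.exists_card_eq
    rw [hk]
    intro hdvd
    have := (Nat.prime_dvd_prime_iff_eq hp hq).mp (hp.dvd_of_dvd_pow hdvd)
    exact hqp this.symm
  have hQcomm : IsMulCommutative (Q : Subgroup G) := hab _ hQp
  by_cases hQ1 : (Q : Subgroup G) = ⊥
  · rw [hQ1, Subgroup.card_bot]
    exact Nat.mod_eq_of_lt hp.one_lt
  have hM : Subgroup.normalizer ((Q : Subgroup G) : Set G) ≠ ⊤ := by
    intro htop
    have hn : (Q : Subgroup G).Normal := Subgroup.normalizer_eq_top_iff.mp htop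
    rcases hn.eq_bot_or_eq_top with h | h
    · exact hQ1 h
    · obtain ⟨a, b, hab'⟩ := hna
      apply hab'
      have ha : a ∈ (Q : Subgroup G) := h ▸ Subgroup.mem_top a
      have hb : b ∈ (Q : Subgroup G) := h ▸ Subgroup.mem_top b
      exact congrArg Subtype.val (hQcomm.is_comm.comm ⟨a, ha⟩ ⟨b, hb⟩)
  -- a Sylow `p`-subgroup of `N(Q)` with a complement
  obtain ⟨R, H, hc⟩ : ∃ (R : Sylow p (Subgroup.normalizer ((Q : Subgroup G) : Set G)))
      (H : Subgroup (Subgroup.normalizer ((Q : Subgroup G) : Set G))),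
      H.IsComplement' (R : Subgroup (Subgroup.normalizer ((Q : Subgroup G) : Set G))) := by
    obtain ⟨P1⟩ : Nonempty (Sylow p (Subgroup.normalizer ((Q : Subgroup G) : Set G))) :=
      inferInstance
    rcases hmin _ hM P1 with ⟨P2, K, -, hK⟩ | hn
    · exact ⟨P2, K, hK⟩
    · haveI := hn
      obtain ⟨H, hH⟩ := Subgroup.exists_right_complement'_of_coprime P1.card_coprime_index
      exact ⟨P1, H, hH.symm⟩
  apply card_mod_of_fixed (Q : Subgroup G)
    (R : Subgroup (Subgroup.normalizer ((Q : Subgroup G) : Set G))) R.2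
  intro y hy hyR
  exact hT q Q hQcomm y hy (comm_norm_of_comm_sylow hab hqp Q R H hc hy hyR)

end Cfsg.Agent.S4016P
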