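import Mathlib
import Cfsg.Prelude.Def_Transfer
import Cfsg.Agent.Helper12.S4016C

set_option autoImplicit false

namespace Cfsg.Agent.S4016P

/-- For `q ≠ p` and a nontrivial Sylow `q`-subgroup `Q`, the normalizer `N(Q)` has a normal
`p`-complement (subtype level). -/
theorem normQ_npc {G : Type*} [Group G] [Finite G] {p : ℕ} [Fact p.Prime] [IsSimpleGroup G]
    (hna : ∃ a b : G, a * b ≠ b * a)
    (hab : ∀ H : Subgroup G, ¬ p ∣ Nat.card H → IsMulCommutative H)
    (hmin : ∀ H : Subgroup G, H ≠ ⊤ → ∀ P1 : Sylow p H,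
      Cfsg.HasNormalPComplement p H ∨ (P1 : Subgroup H).Normal)
    (hT : ∀ (q : ℕ) [Fact q.Prime] (Q : Sylow q G), IsMulCommutative Q → ∀ y ∈ Q,
      (∀ n ∈ Subgroup.normalizer ((Q : Subgroup G) : Set G), n * y = y * n) → y = 1)
    {q : ℕ} [Fact q.Prime] (hqp : q ≠ p) (Q : Sylow q G) (hQ1 : (Q : Subgroup G) ≠ ⊥) :
    ∃ (P2 : Sylow p (Subgroup.normalizer ((Q : Subgroup G) : Set G)))
      (K : Subgroup (Subgroup.normalizer ((Q : Subgroup G) : Set G))), K.Normal ∧
      K.IsComplement' (P2 : Subgroup (Subgroup.normalizer ((Q : Subgroup G) : Set G))) := by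
  have hp : p.Prime := Fact.out
  have hq : q.Prime := Fact.out
  have hQp : ¬ p ∣ Nat.card (Q : Subgroup G) := by
    obtain ⟨k, hk⟩ := Q.2.exists_card_eq
    rw [hk]
    intro hdvd
    have := (Nat.prime_dvd_prime_iff_eq hp hq).mp (hp.dvd_of_dvd_pow hdvd)
    exact hqp this.symm
  have hQcomm : IsMulCommutative (Q : Subgroup G) := hab _ hQp
  have hM : Subgroup.normalizer ((Q : Subgroup G) : Set G) ≠ ⊤ := by
    intro htop
    have hn : (Q : Subgroup G).Normal := Subgroup.normalizer_eq_top_iff.mp htop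
    rcases hn.eq_bot_or_eq_top with h | h
    · exact hQ1 h
    · obtain ⟨a, b, hab'⟩ := hna
      apply hab'
      have ha : a ∈ (Q : Subgroup G) := h ▸ Subgroup.mem_top a
      have hb : b ∈ (Q : Subgroup G) := h ▸ Subgroup.mem_top b
      exact congrArg Subtype.val (hQcomm.is_comm.comm ⟨a, ha⟩ ⟨b, hb⟩)
  obtain ⟨P1⟩ : Nonempty (Sylow p (Subgroup.normalizer ((Q : Subgroup G) : Set G))) :=
    inferInstance
  rcases hmin _ hM P1 with ⟨P2, K, hKn, hK⟩ | hn
  · exact ⟨P2, K, hKn, hK⟩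
  · exfalso
    have hn' := hn
    obtain ⟨H, hH⟩ := Subgroup.exists_right_complement'_of_coprime P1.card_coprime_index
    have hQM : (Q : Subgroup G) ≤ Subgroup.normalizer ((Q : Subgroup G) : Set G) :=
      Subgroup.le_normalizer
    have hQMn : ((Q : Subgroup G).subgroupOf
        (Subgroup.normalizer ((Q : Subgroup G) : Set G))).Normal :=
      Subgroup.normal_in_normalizer
    have hQMp : IsPGroup q ((Q : Subgroup G).subgroupOf
        (Subgroup.normalizer ((Q : Subgroup G) : Set G))) := Q.2.comap_subtype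
    have hdis : Disjoint (P1 : Subgroup (Subgroup.normalizer ((Q : Subgroup G) : Set G)))
        ((Q : Subgroup G).subgroupOf (Subgroup.normalizer ((Q : Subgroup G) : Set G))) :=
      IsPGroup.disjoint_of_ne p q (Ne.symm hqp) _ _ P1.2 hQMp
    apply hQ1
    rw [Subgroup.eq_bot_iff_forall]
    intro y hy
    apply hT q Q hQcomm y hy
    apply comm_norm_of_comm_sylow hab hqp Q P1 H hH.symm hy
    intro r hr
    have hcm := Subgroup.commute_of_normal_of_disjoint _ _ hn' hQMn hdis r ⟨y, hQM hy⟩ hr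
      (Subgroup.mem_subgroupOf.mpr hy)
    exact congrArg Subtype.val hcm.eq

/-- Structure of `N(Q)` for a nontrivial Sylow `q`-subgroup `Q`, `q ≠ p`, in `G`-level form:
`N(Q) = K : P1` with `K` an abelian `p'`-subgroup containing `Q` and all `p'`-elements of
`N(Q)`, normalized by the nontrivial `p`-subgroup `P1`, and `C_Q(P1) = 1`. -/
theorem normQ_struct {G : Type*} [Group G] [Finite G] {p : ℕ} [Fact p.Prime] [IsSimpleGroup G]
    (hna : ∃ a b : G, a * b ≠ b * a)
    (hab : ∀ H : Subgroup G, ¬ p ∣ Nat.card H → IsMulCommutative H)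
    (hmin : ∀ H : Subgroup G, H ≠ ⊤ → ∀ P1 : Sylow p H,
      Cfsg.HasNormalPComplement p H ∨ (P1 : Subgroup H).Normal)
    (hT : ∀ (q : ℕ) [Fact q.Prime] (Q : Sylow q G), IsMulCommutative Q → ∀ y ∈ Q,
      (∀ n ∈ Subgroup.normalizer ((Q : Subgroup G) : Set G), n * y = y * n) → y = 1) :
    ∀ (q : ℕ) [Fact q.Prime] (Q : Sylow q G), q ≠ p → (Q : Subgroup G) ≠ ⊥ →
      ∃ K P1 : Subgroup G, (∀ a ∈ K, ∀ b ∈ K, a * b = b * a) ∧ (Q : Subgroup G) ≤ K ∧
        (∀ y ∈ Subgroup.normalizer ((Q : Subgroup G) : Set G), (orderOf y).Coprime p → y ∈ K) ∧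
        ¬ p ∣ Nat.card K ∧ (∀ u ∈ P1, ∀ k ∈ K, u * k * u⁻¹ ∈ K) ∧ IsPGroup p P1 ∧ P1 ≠ ⊥ ∧
        (∀ y ∈ (Q : Subgroup G), (∀ u ∈ P1, u * y = y * u) → y = 1) := by
  intro q _ Q hqp hQ1
  have hp : p.Prime := Fact.out
  have hq : q.Prime := Fact.out
  obtain ⟨P2, K', hKn, hKc⟩ := normQ_npc hna hab hmin hT hqp Q hQ1
  have hQp : ¬ p ∣ Nat.card (Q : Subgroup G) := by
    obtain ⟨k, hk⟩ := Q.2.exists_card_eq
    rw [hk]
    intro hdvd
    have := (Nat.prime_dvd_prime_iff_eq hp hq).mp (hp.dvd_of_dvd_pow hdvd)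
    exact hqp this.symm
  have hQcomm : IsMulCommutative (Q : Subgroup G) := hab _ hQp
  have hQM : (Q : Subgroup G) ≤ Subgroup.normalizer ((Q : Subgroup G) : Set G) :=
    Subgroup.le_normalizer
  -- `K` has order prime to `p`
  have hKcard : ¬ p ∣ Nat.card (K'.map (Subgroup.normalizer ((Q : Subgroup G) : Set G)).subtype) := by
    rw [Subgroup.card_subtype, ← hKc.index_eq_card]
    exact P2.not_dvd_index
  have hKab := hab _ hKcard
  -- `p'`-elements of `N(Q)` lie in `K`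
  have hKall : ∀ y ∈ Subgroup.normalizer ((Q : Subgroup G) : Set G), (orderOf y).Coprime p →
      y ∈ K'.map (Subgroup.normalizer ((Q : Subgroup G) : Set G)).subtype := by
    intro y hy hyo
    have h1 : (⟨y, hy⟩ : Subgroup.normalizer ((Q : Subgroup G) : Set G)) ^ K'.index ∈ K' :=
      Subgroup.pow_index_mem K' _
    have h2 : K'.index = Nat.card (P2 : Subgroup (Subgroup.normalizer ((Q : Subgroup G) : Set G))) :=
      hKc.symm.index_eq_card
    obtain ⟨k, hk⟩ := P2.2.exists_card_eq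
    have h3 : (K'.index).Coprime
        (orderOf (⟨y, hy⟩ : Subgroup.normalizer ((Q : Subgroup G) : Set G))) := by
      rw [h2, hk, Subgroup.orderOf_mk]
      exact (Nat.Coprime.pow_right k hyo).symm
    obtain ⟨j, hj⟩ := exists_pow_eq_self_of_coprime h3
    have h4 : (⟨y, hy⟩ : Subgroup.normalizer ((Q : Subgroup G) : Set G)) ∈ K' := by
      rw [← hj]
      exact pow_mem h1 j
    exact ⟨⟨y, hy⟩, h4, rfl⟩
  have hfix : ∀ y ∈ (Q : Subgroup G),
      (∀ u ∈ (P2 : Subgroup (Subgroup.normalizer ((Q : Subgroup G) : Set G))).map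
        (Subgroup.normalizer ((Q : Subgroup G) : Set G)).subtype, u * y = y * u) → y = 1 := by
    intro y hy hyR
    exact hT q Q hQcomm y hy
      (comm_norm_of_comm_sylow hab hqp Q P2 K' hKc hy (fun r hr => hyR (r : G) ⟨r, hr, rfl⟩))
  refine ⟨K'.map (Subgroup.normalizer ((Q : Subgroup G) : Set G)).subtype,
    (P2 : Subgroup (Subgroup.normalizer ((Q : Subgroup G) : Set G))).map
      (Subgroup.normalizer ((Q : Subgroup G) : Set G)).subtype, ?_, ?_, hKall, hKcard, ?_, ?_, ?_,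
    hfix⟩
  · intro a ha b hb
    exact congrArg Subtype.val (hKab.is_comm.comm ⟨a, ha⟩ ⟨b, hb⟩)
  · intro y hy
    apply hKall y (hQM hy)
    obtain ⟨j, hj⟩ := (IsPGroup.iff_orderOf.mp Q.2) ⟨y, hy⟩
    rw [Subgroup.orderOf_mk] at hj
    rw [hj]
    exact Nat.Coprime.pow_left j ((Nat.coprime_primes hq hp).mpr hqp)
  · rintro u ⟨u', hu', rfl⟩ k ⟨k', hk', rfl⟩
    exact ⟨u' * k' * u'⁻¹, hKn.conj_mem k' hk' u', rfl⟩
  · exact P2.2.map _
  · intro hbot
    apply hQ1
    rw [Subgroup.eq_bot_iff_forall]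
    intro y hy
    apply hfix y hy
    intro u hu
    rw [hbot, Subgroup.mem_bot] at hu
    rw [hu, one_mul, mul_one]

end Cfsg.Agent.S4016P
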