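import Mathlib
import Cfsg.Prelude.Def_Transfer
import Cfsg.Agent.Helper13.NPC
import Cfsg.Agent.Helper1.NC
import Cfsg.Agent.Helper12.S4016B

set_option autoImplicit false

namespace Cfsg.Agent.S4016P

/-- If all `p'`-subgroups are abelian, a `p'`-element commutes with every element of a normal
`p'`-subgroup. -/
theorem h12_pprime_comm_normal {G : Type*} [Group G] [Finite G] {p : ℕ} [Fact p.Prime]
    (hab : ∀ H : Subgroup G, ¬ p ∣ Nat.card H → IsMulCommutative H)
    (K : Subgroup G) [K.Normal] (hK : ¬ p ∣ Nat.card K) {x : G} (hxo : (orderOf x).Coprime p)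
    {k : G} (hk : k ∈ K) : x * k = k * x := by
  have hp : p.Prime := Fact.out
  let Z : Subgroup G := Subgroup.zpowers x
  have h2 : K.relIndex (K ⊔ Z) = K.relIndex Z := Subgroup.relIndex_sup_left Z K
  have h3 : K.relIndex Z ∣ orderOf x := by
    have h := Subgroup.relIndex_dvd_card K Z
    rwa [Nat.card_zpowers] at h
  have h4 : Nat.card ↥(K ⊔ Z) = Nat.card K * K.relIndex (K ⊔ Z) := by
    have h := Subgroup.relIndex_mul_relIndex _ _ _ (bot_le : (⊥ : Subgroup G) ≤ K)
      (le_sup_left : K ≤ K ⊔ Z)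
    rw [Subgroup.relIndex_bot_left, Subgroup.relIndex_bot_left] at h
    exact h.symm
  have h5 : ¬ p ∣ Nat.card ↥(K ⊔ Z) := by
    rw [h4, h2]
    intro hdvd
    rcases (Nat.Prime.dvd_mul hp).mp hdvd with h | h
    · exact hK h
    · have h6 : p ∣ orderOf x := h.trans h3
      have h7 : p ∣ Nat.gcd (orderOf x) p := Nat.dvd_gcd h6 dvd_rfl
      rw [Nat.Coprime] at hxo
      rw [hxo] at h7
      exact hp.one_lt.ne' (Nat.dvd_one.mp h7)
  have hcomm := hab _ h5
  have hxH : x ∈ K ⊔ Z := (le_sup_right : Z ≤ K ⊔ Z) (Subgroup.mem_zpowers x)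
  have hkH : k ∈ K ⊔ Z := (le_sup_left : K ≤ K ⊔ Z) hk
  exact congrArg Subtype.val (hcomm.is_comm.comm ⟨x, hxH⟩ ⟨k, hkH⟩)

/-- If `P` is a cyclic Sylow `p`-subgroup, all `p'`-subgroups are abelian, `K` is a normal
`p'`-subgroup and `PK` is normal (elementwise form), then `G` has a normal `p`-complement or
`P` is normal. -/
theorem h12_red_sup_normal {G : Type*} [Group G] [Finite G] {p : ℕ} [Fact p.Prime]
    (P : Sylow p G) (hcyc : IsCyclic P)
    (hab : ∀ H : Subgroup G, ¬ p ∣ Nat.card H → IsMulCommutative H)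
    (K : Subgroup G) [hKn : K.Normal] (hK : ¬ p ∣ Nat.card K)
    (hPK : ∀ g : G, ∀ u ∈ (P : Subgroup G), ∃ a ∈ (P : Subgroup G), ∃ k ∈ K,
      g * u * g⁻¹ = a * k) :
    Cfsg.HasNormalPComplement p G ∨ (P : Subgroup G).Normal := by
  have hp : p.Prime := Fact.out
  haveI : IsMulCommutative (P : Subgroup G) := by
    have := hcyc
    exact ⟨⟨fun a b => IsCyclic.commGroup.mul_comm a b⟩⟩
  by_cases hNC : Subgroup.normalizer ((P : Subgroup G) : Set G) ≤
      Subgroup.centralizer ((P : Subgroup G) : Set G)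
  · left
    exact ⟨P, (MonoidHom.transferSylow P hNC).ker, inferInstance,
      MonoidHom.ker_transferSylow_isComplement' P hNC⟩
  · right
    obtain ⟨x, hxN, hxo, hxC⟩ := Cfsg.Agent.Helper1.exists_pprime_not_mem_centralizer P hNC
    have hconj : ∀ g : G, ∀ k ∈ K, (g * x * g⁻¹) * k = k * (g * x * g⁻¹) := by
      intro g k hk
      have hk' : g⁻¹ * k * g ∈ K := by
        have := hKn.conj_mem k hk g⁻¹
        simpa using this
      have h1 := h12_pprime_comm_normal hab K hK hxo hk'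
      calc g * x * g⁻¹ * k = g * (x * (g⁻¹ * k * g)) * g⁻¹ := by group
        _ = g * ((g⁻¹ * k * g) * x) * g⁻¹ := by rw [h1]
        _ = k * (g * x * g⁻¹) := by group
    have hxinv : ∀ k ∈ K, x⁻¹ * k = k * x⁻¹ := by
      intro k hk
      have h1 := h12_pprime_comm_normal hab K hK hxo hk
      calc x⁻¹ * k = x⁻¹ * (k * x) * x⁻¹ := by group
        _ = x⁻¹ * (x * k) * x⁻¹ := by rw [h1]
        _ = k * x⁻¹ := by group
    have hxP : ∀ u ∈ (P : Subgroup G), x * u * x⁻¹ ∈ (P : Subgroup G) := fun u hu =>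
      (Subgroup.mem_normalizer_iff.mp hxN u).mp hu
    let φ : (↥(P : Subgroup G)) → (↥(P : Subgroup G)) := fun u =>
      ⟨(u : G)⁻¹ * (x * u * x⁻¹), mul_mem (inv_mem u.2) (hxP u u.2)⟩
    have hφinj : Function.Injective φ := by
      intro u v huv
      have h1 : (u : G)⁻¹ * (x * u * x⁻¹) = (v : G)⁻¹ * (x * v * x⁻¹) :=
        congrArg Subtype.val huv
      have h3 : x * u * x⁻¹ = (u : G) * (v : G)⁻¹ * (x * v * x⁻¹) := by
        calc x * u * x⁻¹ = u * ((u : G)⁻¹ * (x * u * x⁻¹)) := by group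
          _ = u * ((v : G)⁻¹ * (x * v * x⁻¹)) := by rw [h1]
          _ = (u : G) * (v : G)⁻¹ * (x * v * x⁻¹) := by group
      have h2 : x * ((u : G) * (v : G)⁻¹) = ((u : G) * (v : G)⁻¹) * x := by
        calc x * ((u : G) * (v : G)⁻¹) = (x * u * x⁻¹) * x * (v : G)⁻¹ := by group
          _ = ((u : G) * (v : G)⁻¹ * (x * v * x⁻¹)) * x * (v : G)⁻¹ := by rw [h3]
          _ = ((u : G) * (v : G)⁻¹) * x := by group
      by_contra hne
      have hw1 : (u : G) * (v : G)⁻¹ ≠ 1 := by
        intro h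
        apply hne
        exact Subtype.ext (mul_inv_eq_one.mp h)
      exact hxC (cyc_fix_cent (P : Subgroup G) P.2 hcyc hxN hxo
        (mul_mem u.2 (inv_mem v.2)) hw1 h2)
    have hφsurj : Function.Surjective φ := Finite.injective_iff_surjective.mp hφinj
    have hPK' : ∀ v ∈ (P : Subgroup G), ∀ k ∈ K, v * k = k * v := by
      intro v hv k hk
      obtain ⟨u, hu⟩ := hφsurj ⟨v, hv⟩
      have hv' : v = (u : G)⁻¹ * (x * u * x⁻¹) := (congrArg Subtype.val hu).symm
      have e1 := hconj (u : G)⁻¹ k hk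
      have e2 := hxinv k hk
      rw [inv_inv] at e1
      calc v * k = ((u : G)⁻¹ * x * u) * (x⁻¹ * k) := by rw [hv']; group
        _ = ((u : G)⁻¹ * x * u) * (k * x⁻¹) := by rw [e2]
        _ = (((u : G)⁻¹ * x * u) * k) * x⁻¹ := by group
        _ = (k * ((u : G)⁻¹ * x * u)) * x⁻¹ := by rw [e1]
        _ = k * v := by rw [hv']; group
    refine ⟨fun u hu g => ?_⟩
    obtain ⟨a, ha, k, hk, hgu⟩ := hPK g u hu
    have hcomm : Commute a k := hPK' a ha k hk
    have hcard : u ^ Nat.card (P : Subgroup G) = 1 :=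
      orderOf_dvd_iff_pow_eq_one.mp (Subgroup.orderOf_dvd_natCard _ hu)
    have ha1 : a ^ Nat.card (P : Subgroup G) = 1 :=
      orderOf_dvd_iff_pow_eq_one.mp (Subgroup.orderOf_dvd_natCard _ ha)
    have h1 : (g * u * g⁻¹) ^ Nat.card (P : Subgroup G) = 1 := by
      rw [conj_pow, hcard]; group
    rw [hgu, hcomm.mul_pow, ha1, one_mul] at h1
    have hk1 : k = 1 := by
      have hd1 : orderOf k ∣ Nat.card (P : Subgroup G) := orderOf_dvd_of_pow_eq_one h1
      have hd2 : orderOf k ∣ Nat.card K := Subgroup.orderOf_dvd_natCard K hk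
      obtain ⟨n, hn⟩ := P.2.exists_card_eq
      rw [hn] at hd1
      have hcop : (p ^ n).Coprime (Nat.card K) :=
        Nat.Coprime.pow_left n ((Nat.Prime.coprime_iff_not_dvd hp).mpr hK)
      have : orderOf k = 1 := Nat.eq_one_of_dvd_coprimes hcop hd1 hd2
      exact orderOf_eq_one_iff.mp this
    rw [hgu, hk1, mul_one]
    exact ha

/-- Reduction step (A1): if `K` is a normal `p'`-subgroup and the statement holds for `G ⧸ K`,
it holds for `G`. -/
theorem red_pprime.{u} {G : Type u} [Group G] [Finite G] {p : ℕ} [Fact p.Prime] (P : Sylow p G)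
    (hcyc : IsCyclic P) (hab : ∀ H : Subgroup G, ¬ p ∣ Nat.card H → IsMulCommutative H)
    (K : Subgroup G) [K.Normal] (hK : ¬ p ∣ Nat.card K)
    (ih : ∀ P' : Sylow p (G ⧸ K), IsCyclic P' →
      (∀ H : Subgroup (G ⧸ K), ¬ p ∣ Nat.card H → IsMulCommutative H) →
      Cfsg.HasNormalPComplement p (G ⧸ K) ∨ (P' : Subgroup (G ⧸ K)).Normal) :
    Cfsg.HasNormalPComplement p G ∨ (P : Subgroup G).Normal := by
  have hp : p.Prime := Fact.out
  have hsurj : Function.Surjective (QuotientGroup.mk' K) := QuotientGroup.mk'_surjective K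
  let P' : Sylow p (G ⧸ K) := P.mapSurjective hsurj
  have hP' : (P' : Subgroup (G ⧸ K)) = (P : Subgroup G).map (QuotientGroup.mk' K) := rfl
  have hcyc' : IsCyclic P' := by
    haveI := hcyc
    exact isCyclic_of_surjective ((QuotientGroup.mk' K).subgroupMap (P : Subgroup G))
      ((QuotientGroup.mk' K).subgroupMap_surjective (P : Subgroup G))
  have hpull : ∀ H : Subgroup (G ⧸ K), ¬ p ∣ Nat.card H →
      ¬ p ∣ Nat.card (H.comap (QuotientGroup.mk' K)) := by
    intro H hH hdvd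
    obtain ⟨x, hx⟩ := exists_prime_orderOf_dvd_card' p hdvd
    have hxH : (QuotientGroup.mk' K) (x : G) ∈ H := x.2
    have hox : orderOf (x : G) = p := by rw [Subgroup.orderOf_coe]; exact hx
    have h1 : orderOf ((QuotientGroup.mk' K) (x : G)) ∣ p := by
      rw [← hox]; exact orderOf_map_dvd _ _
    have h2 : orderOf ((QuotientGroup.mk' K) (x : G)) ∣ Nat.card H :=
      Subgroup.orderOf_dvd_natCard H hxH
    have h3 : orderOf ((QuotientGroup.mk' K) (x : G)) = 1 := by
      rcases (Nat.dvd_prime hp).mp h1 with h | h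
      · exact h
      · exact absurd (h ▸ h2) hH
    have h4 : (x : G) ∈ K := by
      have := orderOf_eq_one_iff.mp h3
      exact (QuotientGroup.eq_one_iff (x : G)).mp this
    have h5 : orderOf (x : G) ∣ Nat.card K := Subgroup.orderOf_dvd_natCard K h4
    rw [hox] at h5
    exact hK h5
  have hab' : ∀ H : Subgroup (G ⧸ K), ¬ p ∣ Nat.card H → IsMulCommutative H := by
    intro H hH
    have hc := hab _ (hpull H hH)
    refine ⟨⟨fun a b => ?_⟩⟩
    obtain ⟨a', ha'⟩ := hsurj (a : G ⧸ K)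
    obtain ⟨b', hb'⟩ := hsurj (b : G ⧸ K)
    have ha'' : a' ∈ H.comap (QuotientGroup.mk' K) := by
      rw [Subgroup.mem_comap, ha']; exact a.2
    have hb'' : b' ∈ H.comap (QuotientGroup.mk' K) := by
      rw [Subgroup.mem_comap, hb']; exact b.2
    have h1 : a' * b' = b' * a' :=
      congrArg Subtype.val (hc.is_comm.comm ⟨a', ha''⟩ ⟨b', hb''⟩)
    apply Subtype.ext
    show (a : G ⧸ K) * (b : G ⧸ K) = (b : G ⧸ K) * (a : G ⧸ K)
    rw [← ha', ← hb', ← map_mul, ← map_mul, h1]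
  rcases ih P' hcyc' hab' with h | h
  · left
    have hKc : (Nat.card K).Coprime p := ((Nat.Prime.coprime_iff_not_dvd hp).mpr hK).symm
    exact Cfsg.Agent.Helper13.npc_of_npcin_top
      (Cfsg.Agent.Helper13.npcin_top_of_quotient K hKc (Cfsg.Agent.Helper13.npcin_top_of_npc h))
  · apply h12_red_sup_normal P hcyc hab K hK
    intro g u hu
    have h1 : (QuotientGroup.mk' K) (g * u * g⁻¹) ∈ (P' : Subgroup (G ⧸ K)) := by
      rw [map_mul, map_mul, map_inv]
      exact h.conj_mem _ (Subgroup.mem_map_of_mem _ hu) _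
    rw [hP'] at h1
    obtain ⟨a, ha, hae⟩ := Subgroup.mem_map.mp h1
    refine ⟨a, ha, a⁻¹ * (g * u * g⁻¹), ?_, by group⟩
    have h2 : (QuotientGroup.mk' K) (a⁻¹ * (g * u * g⁻¹)) = 1 := by
      rw [map_mul, map_inv, hae, inv_mul_cancel]
    exact (QuotientGroup.eq_one_iff _).mp h2

end Cfsg.Agent.S4016P
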